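import Mathlib.GroupTheory.SpecificGroups.Quaternion
import Mathlib.GroupTheory.Commutator.Basic
import Mathlib.GroupTheory.Transfer
import Mathlib.GroupTheory.SpecificGroups.Cyclic
import Mathlib.GroupTheory.Sylow
import Mathlib.Tactic.LinearCombination
import Mathlib.Tactic.Ring

/-!
# The centraliser of the derived subgroup of a generalised quaternion Sylow subgroup
-/

set_option autoImplicit false
set_option linter.style.haveILetI false

namespace Cfsg.Agent.Char.Quat

open QuaternionGroup Subgroup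
open scoped commutatorElement

variable {m : ℕ}

theorem commutator_mem (g h : QuaternionGroup m) :
    ⁅g, h⁆ ∈ Subgroup.zpowers (a 2 : QuaternionGroup m) := by
  have key : ∀ j : ZMod (2 * m), ∃ k : ℤ, (k : ZMod (2 * m)) = j :=
    fun j => ZMod.intCast_surjective j
  have hz : ∀ j : ZMod (2 * m), (a (2 * j) : QuaternionGroup m) ∈ zpowers (a 2 : QuaternionGroup m) := by
    intro j
    obtain ⟨k, rfl⟩ := key j
    refine Subgroup.mem_zpowers_iff.mpr ⟨k, ?_⟩
    induction k using Int.induction_on with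
    | zero => rw [zpow_zero, ← a_zero]; congr 1; simp
    | succ k ih => rw [zpow_add_one, ih, a_mul_a]; congr 1; push_cast; ring
    | pred k ih =>
      rw [zpow_sub_one, ih, mul_inv_eq_iff_eq_mul, a_mul_a]; congr 1; push_cast; ring
  have hia : ∀ i : ZMod (2 * m), (a i : QuaternionGroup m)⁻¹ = a (-i) := fun i =>
    inv_eq_of_mul_eq_one_right (by rw [a_mul_a, add_neg_cancel, a_zero])
  have h0 : ((2 * m : ℕ) : ZMod (2 * m)) = 0 := ZMod.natCast_self _
  push_cast at h0
  have hix : ∀ i : ZMod (2 * m), (xa i : QuaternionGroup m)⁻¹ = xa ((m : ZMod (2 * m)) + i) :=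
    fun i => inv_eq_of_mul_eq_one_right (by
      rw [xa_mul_xa, ← a_zero]; congr 1; linear_combination h0)
  rw [commutatorElement_def]
  rcases g with i | i <;> rcases h with j | j
  · rw [hia, hia, a_mul_a, a_mul_a, a_mul_a, show i + j + -i + -j = 2 * 0 by ring]; exact hz 0
  · rw [hia, hix, a_mul_xa, xa_mul_a, xa_mul_xa]
    convert hz i using 2
    linear_combination h0
  · rw [hix, hia, xa_mul_a, xa_mul_xa, a_mul_a]
    convert hz (-j) using 2
    linear_combination h0
  · rw [hix, hix, xa_mul_xa, a_mul_xa, xa_mul_xa]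
    convert hz (j - i) using 2
    linear_combination h0

theorem commutator_eq : (⁅(⊤ : Subgroup (QuaternionGroup m)), ⊤⁆) =
    Subgroup.zpowers (a 2 : QuaternionGroup m) := by
  refine le_antisymm (Subgroup.commutator_le.mpr fun g _ h _ => commutator_mem g h) ?_
  rw [Subgroup.zpowers_le]
  have e : ⁅(a 1 : QuaternionGroup m), (xa 0 : QuaternionGroup m)⁆ = a 2 := by
    have h0 : ((2 * m : ℕ) : ZMod (2 * m)) = 0 := ZMod.natCast_self _
    push_cast at h0
    rw [commutatorElement_def,
      inv_eq_of_mul_eq_one_right (show (a 1 : QuaternionGroup m) * a (-1) = 1 by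
        rw [a_mul_a, add_neg_cancel, a_zero]),
      inv_eq_of_mul_eq_one_right (show (xa 0 : QuaternionGroup m) * xa (m : ZMod (2 * m)) = 1 by
        rw [xa_mul_xa, ← a_zero]; congr 1; linear_combination h0),
      a_mul_xa, xa_mul_a, xa_mul_xa]
    congr 1
    linear_combination h0
  exact e ▸ Subgroup.commutator_mem_commutator (Subgroup.mem_top _) (Subgroup.mem_top _)

theorem orderOf_a_two [NeZero m] : orderOf (a 2 : QuaternionGroup m) = m := by
  rw [show (a 2 : QuaternionGroup m) = a 1 ^ 2 by rw [a_one_pow, Nat.cast_ofNat],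
    orderOf_pow' _ two_ne_zero, orderOf_a_one, Nat.gcd_eq_right (dvd_mul_right 2 m),
    Nat.mul_div_cancel_left _ two_pos]

theorem commute_a_two_iff [NeZero m] (hm : 3 ≤ m) (g : QuaternionGroup m) :
    Commute g (a 2) ↔ g ∈ Subgroup.zpowers (a 1 : QuaternionGroup m) := by
  haveI : NeZero (2 * m) := ⟨by have := NeZero.ne m; omega⟩
  constructor
  · intro h
    rcases g with i | i
    · exact Subgroup.mem_zpowers_iff.mpr ⟨(i.val : ℤ), by
        rw [zpow_natCast, a_one_pow, ZMod.natCast_zmod_val]⟩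
    · exfalso
      have h1 := h.eq
      rw [xa_mul_a, a_mul_xa] at h1
      have h2 : ((4 : ℕ) : ZMod (2 * m)) = 0 := by
        have := QuaternionGroup.xa.inj h1
        push_cast
        linear_combination this
      rw [ZMod.natCast_eq_zero_iff] at h2
      have := Nat.le_of_dvd (by norm_num) h2
      omega
  · intro h
    obtain ⟨k, rfl⟩ := Subgroup.mem_zpowers_iff.mp h
    exact (show Commute (a 1 : QuaternionGroup m) (a 2) from by
      show a 1 * a 2 = a 2 * a 1
      rw [a_mul_a, a_mul_a, add_comm]).zpow_left k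

/-- A cyclic subgroup determines its subgroups by their order. -/
theorem le_of_card_eq {G : Type*} [Group G] [Finite G] {C A B : Subgroup G} (hC : IsCyclic C)
    (hA : A ≤ C) (hB : B ≤ C) (h : Nat.card A ∣ Nat.card B) : A ≤ B := by
  classical
  obtain ⟨c, hc⟩ := hC.exists_generator
  intro x hx
  obtain ⟨b, hb⟩ : ∃ b, B.subgroupOf C = Subgroup.zpowers b := by
    haveI := hC
    obtain ⟨b, hb⟩ := IsCyclic.exists_generator (α := B.subgroupOf C)
    refine ⟨b.1, le_antisymm (fun y hy => ?_) (Subgroup.zpowers_le.mpr b.2)⟩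
    obtain ⟨k, hk⟩ := Subgroup.mem_zpowers_iff.mp (hb ⟨y, hy⟩)
    exact Subgroup.mem_zpowers_iff.mpr ⟨k, congrArg Subtype.val hk⟩
  have h1 : orderOf (⟨x, hA hx⟩ : C) ∣ orderOf b := by
    rw [← Nat.card_zpowers b, ← hb, Nat.card_congr (Subgroup.subgroupOfEquivOfLe hB).toEquiv,
      Subgroup.orderOf_mk]
    exact (Subgroup.orderOf_dvd_natCard A hx).trans h
  haveI := hC
  haveI : Fintype C := Fintype.ofFinite C
  have h2 : (⟨x, hA hx⟩ : C) ∈ Subgroup.zpowers b := by
    have hsub : (Subgroup.zpowers b : Set C).toFinset ⊆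
        Finset.univ.filter fun y : C => y ^ orderOf b = 1 := by
      intro y hy
      rw [Set.mem_toFinset, SetLike.mem_coe] at hy
      obtain ⟨k, rfl⟩ := Subgroup.mem_zpowers_iff.mp hy
      rw [Finset.mem_filter]
      refine ⟨Finset.mem_univ _, ?_⟩
      rw [← zpow_natCast, ← zpow_mul, mul_comm, zpow_mul, zpow_natCast, pow_orderOf_eq_one, one_zpow]
    have hcard : (Finset.univ.filter fun y : C => y ^ orderOf b = 1).card ≤
        (Subgroup.zpowers b : Set C).toFinset.card := by
      refine (IsCyclic.card_pow_eq_one_le (orderOf_pos b)).trans ?_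
      rw [Set.toFinset_card, ← Nat.card_eq_fintype_card]
      exact (Nat.card_zpowers b).ge
    have := Finset.eq_of_subset_of_card_le hsub hcard
    have hx' : (⟨x, hA hx⟩ : C) ∈ Finset.univ.filter fun y : C => y ^ orderOf b = 1 := by
      simp [orderOf_dvd_iff_pow_eq_one.mp h1]
    rw [← this, Set.mem_toFinset] at hx'
    exact hx'
  rw [← hb] at h2
  exact Subgroup.mem_subgroupOf.mp h2

variable {G : Type*} [Group G] [Finite G]

/-- The structure of the normaliser and centraliser of the derived subgroup. -/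
theorem structure_derived (S : Sylow 2 G) (n : ℕ)
    (e : (S : Subgroup G) ≃* QuaternionGroup (2 ^ (n + 2))) (D : Subgroup G)
    (hD : D = ⁅(S : Subgroup G), (S : Subgroup G)⁆) :
    ∃ (K : Subgroup G) (A : Subgroup G), Odd (Nat.card K) ∧
      K ≤ centralizer (D : Set G) ∧ normalizer (D : Set G) ≤ normalizer (K : Set G) ∧
      K ⊔ (S : Subgroup G) = normalizer (D : Set G) ∧
      A = (S : Subgroup G) ⊓ centralizer (D : Set G) ∧
      K ⊔ A = centralizer (D : Set G) ∧
      ((centralizer (D : Set G)).subgroupOf (normalizer (D : Set G))).index = 2 ∧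
      IsCyclic A ∧ IsCyclic D ∧ D ≤ A ∧ Nat.card D = 2 ^ (n + 2) := by
  classical
  haveI : Fact (Nat.Prime 2) := ⟨Nat.prime_two⟩
  haveI : NeZero (2 ^ (n + 2)) := ⟨by positivity⟩
  set M := 2 ^ (n + 2) with hMdef
  have hM3 : 3 ≤ M := by
    have h4 : 2 ^ 2 ≤ 2 ^ (n + 2) := Nat.pow_le_pow_right two_pos (by omega)
    omega
  let ι : QuaternionGroup M →* G := (S : Subgroup G).subtype.comp e.symm.toMonoidHom
  have hι : Function.Injective ι := (S : Subgroup G).subtype_injective.comp e.symm.injective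
  have hrange : (⊤ : Subgroup (QuaternionGroup M)).map ι = (S : Subgroup G) := by
    ext x
    constructor
    · rintro ⟨y, -, rfl⟩
      exact (e.symm y).2
    · intro hx
      exact ⟨e ⟨x, hx⟩, trivial, by simp [ι]⟩
  let d : G := ι (a 2)
  let a1 : G := ι (a 1)
  have hDd : D = zpowers d := by
    rw [hD, ← hrange, ← Subgroup.map_commutator, commutator_eq, MonoidHom.map_zpowers]
  have hod : orderOf d = M := by rw [orderOf_injective ι hι, orderOf_a_two]
  have hDcard : Nat.card D = M := by rw [hDd, Nat.card_zpowers, hod]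
  haveI hDcyc : IsCyclic D := by
    rw [hDd]; infer_instance
  set Nm := normalizer (D : Set G) with hNm
  set C := centralizer (D : Set G) with hC
  have hmemC : ∀ x : G, x ∈ C ↔ Commute x d := by
    intro x
    rw [hC, Subgroup.mem_centralizer_iff]
    constructor
    · intro h
      exact (h d (hDd ▸ mem_zpowers d)).symm
    · intro h y hy
      rw [SetLike.mem_coe, hDd] at hy
      obtain ⟨k, rfl⟩ := Subgroup.mem_zpowers_iff.mp hy
      exact (h.zpow_right k).symm.eq
  have hA : (S : Subgroup G) ⊓ C = zpowers a1 := by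
    ext x
    rw [Subgroup.mem_inf, hmemC]
    constructor
    · rintro ⟨hx, hc⟩
      rw [← hrange] at hx
      obtain ⟨y, -, rfl⟩ := hx
      have h1 : Commute y (a 2) := hι (by rw [map_mul, map_mul]; exact hc)
      rw [commute_a_two_iff hM3] at h1
      rw [← MonoidHom.map_zpowers]
      exact ⟨y, h1, rfl⟩
    · intro hx
      obtain ⟨k, rfl⟩ := Subgroup.mem_zpowers_iff.mp hx
      refine ⟨zpow_mem (e.symm (a 1)).2 k, ?_⟩
      show Commute (a1 ^ k) d
      exact (((commute_a_two_iff hM3 _).mpr (mem_zpowers _)).map ι).zpow_left k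
  have hDS : D ≤ (S : Subgroup G) := by rw [hD]; exact Subgroup.commutator_le_self _
  have hSN : (S : Subgroup G) ≤ Nm := by
    rw [hNm, hD]
    intro s hs
    rw [Subgroup.mem_normalizer_iff_map_conj_eq]
    have h1 := Subgroup.mem_normalizer_iff_map_conj_eq.mp ((S : Subgroup G).le_normalizer hs)
    rw [Subgroup.map_commutator, h1]
  have hCN : C ≤ Nm := Subgroup.centralizer_le_normalizer _
  -- the quotient is a two-group
  obtain ⟨j, hj⟩ : ∃ j, (C.subgroupOf Nm).index = 2 ^ j := by
    have key := card_dvd_of_injective _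
      (QuotientGroup.kerLift_injective D.normalizerMonoidHom)
    rw [Subgroup.normalizerMonoidHom_ker, ← Subgroup.index, IsCyclic.card_mulAut, hDcard, hMdef,
      Nat.totient_prime_pow Nat.prime_two (by omega)] at key
    obtain ⟨j, -, hj⟩ := (Nat.dvd_prime_pow Nat.prime_two).mp (by simpa using key)
    exact ⟨j, hj⟩
  haveI hCnorm : (C.subgroupOf Nm).Normal := by
    have := D.normalizerMonoidHom.normal_ker
    rwa [Subgroup.normalizerMonoidHom_ker] at this
  have hsup : C.subgroupOf Nm ⊔ (S : Subgroup G).subgroupOf Nm = ⊤ := by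
    rw [← Subgroup.index_eq_one]
    refine Nat.eq_one_of_dvd_coprimes ?_ (Subgroup.index_dvd_of_le le_sup_left)
      (Subgroup.index_dvd_of_le le_sup_right)
    rw [hj]
    refine Nat.Coprime.pow_left _ ((Nat.prime_two.coprime_iff_not_dvd).mpr ?_)
    exact fun h => S.not_dvd_index (h.trans (Subgroup.relIndex_dvd_index_of_le hSN))
  have hScard : Nat.card (S : Subgroup G) = 4 * M := by
    rw [Nat.card_congr e.toEquiv, Nat.card_eq_fintype_card, QuaternionGroup.card]
  have hAcard : Nat.card (zpowers a1) = 2 * M := by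
    rw [Nat.card_zpowers, orderOf_injective ι hι, orderOf_a_one]
  have hidx : (C.subgroupOf Nm).index = 2 := by
    have h1 : (C.subgroupOf Nm).relIndex (⊤ : Subgroup Nm) =
        (C.subgroupOf Nm).relIndex ((S : Subgroup G).subgroupOf Nm) := by
      rw [← hsup, sup_comm, Subgroup.relIndex_sup_right]
    rw [Subgroup.relIndex_top_right, Subgroup.relIndex_subgroupOf hSN,
      ← Subgroup.inf_relIndex_left] at h1
    rw [hA] at h1
    have hAS : zpowers a1 ≤ (S : Subgroup G) := by rw [← hA]; exact inf_le_left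
    have h2 : Nat.card (zpowers a1) * (zpowers a1).relIndex (S : Subgroup G) =
        Nat.card (S : Subgroup G) := by
      rw [← Nat.card_congr (Subgroup.subgroupOfEquivOfLe hAS).toEquiv]
      exact Subgroup.card_mul_index _
    rw [hAcard, hScard, ← h1] at h2
    have : 2 * M * (C.subgroupOf Nm).index = 2 * M * 2 := by rw [h2]; ring
    exact Nat.eq_of_mul_eq_mul_left (by omega) this
  -- cyclic Sylow subgroup of the centraliser
  have hPC : zpowers a1 ≤ C := by rw [← hA]; exact inf_le_right
  have hPp : IsPGroup 2 ((zpowers a1).subgroupOf C) :=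
    (IsPGroup.of_card (n := n + 3) (by
      rw [hAcard, hMdef]; ring)).of_equiv (Subgroup.subgroupOfEquivOfLe hPC).symm
  obtain ⟨P, hP⟩ := hPp.exists_le_sylow
  have hPeq : (P : Subgroup C) = (zpowers a1).subgroupOf C := by
    refine le_antisymm ?_ hP
    obtain ⟨T, hT⟩ := (P.isPGroup'.map C.subtype).exists_le_sylow
    have hPmap : Nat.card ((P : Subgroup C).map C.subtype) ∣ 4 * M := by
      rw [← hScard]
      exact (Subgroup.card_dvd_of_le hT).trans (T.card_eq_multiplicity.trans
        S.card_eq_multiplicity.symm).dvd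
    rw [Subgroup.card_map_of_injective C.subtype_injective] at hPmap
    refine (Subgroup.eq_of_le_of_card_ge hP ?_).ge
    rw [Nat.card_congr (Subgroup.subgroupOfEquivOfLe hPC).toEquiv, hAcard]
    have hlt : ¬ (4 * M ∣ Nat.card (P : Subgroup C)) := by
      intro h
      have h3 : 4 * M ∣ Nat.card C := h.trans (Subgroup.card_subgroup_dvd_card _)
      have h4 : 2 * (4 * M) ∣ Nat.card Nm := by
        rw [← (C.subgroupOf Nm).index_mul_card, hidx,
          Nat.card_congr (Subgroup.subgroupOfEquivOfLe hCN).toEquiv]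
        exact Nat.mul_dvd_mul_left 2 h3
      have h5 := h4.trans (Subgroup.card_subgroup_dvd_card Nm)
      have hS2 : 4 * M = 2 ^ (Nat.card G).factorization 2 := hScard ▸ S.card_eq_multiplicity
      rw [hS2, ← pow_succ'] at h5
      exact Nat.pow_succ_factorization_not_dvd Nat.card_pos.ne' Nat.prime_two h5
    have h6 : 4 * M = 2 ^ (n + 4) := by rw [hMdef]; ring
    rw [h6] at hPmap hlt
    obtain ⟨i, hi, hi'⟩ := (Nat.dvd_prime_pow Nat.prime_two).mp hPmap
    rw [hi'] at hlt ⊢
    have : i ≠ n + 4 := fun h => hlt (h ▸ dvd_rfl)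
    rw [show 2 * M = 2 ^ (n + 3) by rw [hMdef]; ring]
    exact Nat.pow_le_pow_right two_pos (by omega)
  haveI hPcyc : IsCyclic (P : Subgroup C) := by
    rw [hPeq]
    exact isCyclic_of_surjective (Subgroup.subgroupOfEquivOfLe hPC).symm
      (Subgroup.subgroupOfEquivOfLe hPC).symm.surjective
  have hCeven : 2 ∣ Nat.card C := by
    refine Dvd.dvd.trans ?_ (Subgroup.card_dvd_of_le hPC)
    rw [hAcard]
    exact dvd_mul_right 2 M
  have hmin : (Nat.card C).minFac = 2 := by
    refine le_antisymm (Nat.minFac_le_of_dvd le_rfl hCeven) (Nat.minFac_prime ?_).two_le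
    intro h
    rw [h] at hCeven
    omega
  set K₀ := (MonoidHom.transferSylow P (hPcyc.normalizer_le_centralizer hmin)).ker with hK₀
  have hcompl : K₀.IsComplement' P := IsCyclic.isComplement' hmin hPcyc
  have hK0odd : Odd (Nat.card K₀) := by
    rw [Nat.odd_iff, ← Nat.two_dvd_ne_zero]
    exact MonoidHom.not_dvd_card_ker_transferSylow P (hPcyc.normalizer_le_centralizer hmin)
  let K : Subgroup G := K₀.map C.subtype
  have hKC : K ≤ C := Subgroup.map_subtype_le K₀
  have hKodd : Odd (Nat.card K) := by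
    rwa [Subgroup.card_map_of_injective C.subtype_injective]
  have hKmem : ∀ x : C, x ∈ K₀ ↔ Odd (orderOf x) := by
    intro x
    refine ⟨fun h => Odd.of_dvd_nat hK0odd (Subgroup.orderOf_dvd_natCard K₀ h), fun h => ?_⟩
    rw [hK₀, MonoidHom.mem_ker, ← orderOf_eq_one_iff]
    obtain ⟨k, hk⟩ := P.isPGroup' ((MonoidHom.transferSylow P (hPcyc.normalizer_le_centralizer hmin)) x)
    exact Nat.eq_one_of_dvd_coprimes ((Nat.coprime_two_left.mpr h).pow_left k)
      (orderOf_dvd_of_pow_eq_one hk) (orderOf_map_dvd _ x)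
  have hNK : Nm ≤ normalizer (K : Set G) := by
    intro g hg
    have key : ∀ g ∈ Nm, ∀ x ∈ K, g * x * g⁻¹ ∈ K := by
      rintro g hg x ⟨y, hy, rfl⟩
      have hc : g * (y : G) * g⁻¹ ∈ C := by
        have := hCnorm.conj_mem ⟨y, hCN y.2⟩ (Subgroup.mem_subgroupOf.mpr y.2) ⟨g, hg⟩
        exact Subgroup.mem_subgroupOf.mp this
      refine ⟨⟨_, hc⟩, ?_, rfl⟩
      rw [SetLike.mem_coe, hKmem, Subgroup.orderOf_mk, show g * (y : G) * g⁻¹ = MulAut.conj g y from rfl,
        MulEquiv.orderOf_eq, Subgroup.orderOf_coe]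
      exact (hKmem y).mp hy
    rw [Subgroup.mem_normalizer_iff]
    refine fun x => ⟨key g hg x, fun h => ?_⟩
    have := key g⁻¹ (Nm.inv_mem hg) _ h
    simpa [mul_assoc] using this
  have hKA : K ⊔ zpowers a1 = C := by
    have h1 : K₀ ⊔ (P : Subgroup C) = ⊤ := hcompl.sup_eq_top
    have h2 := congrArg (Subgroup.map C.subtype) h1
    rwa [Subgroup.map_sup, hPeq, Subgroup.map_subgroupOf_eq_of_le hPC, ← MonoidHom.range_eq_map,
      Subgroup.range_subtype] at h2
  refine ⟨K, (S : Subgroup G) ⊓ C, hKodd, hKC, hNK, ?_, rfl, by rw [hA]; exact hKA, hidx,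
    by rw [hA]; infer_instance, hDcyc, le_inf hDS ?_, hDcard⟩
  · refine le_antisymm (sup_le (hKC.trans hCN) hSN) ?_
    have h2 := congrArg (Subgroup.map Nm.subtype) hsup
    rw [Subgroup.map_sup, Subgroup.map_subgroupOf_eq_of_le hCN, Subgroup.map_subgroupOf_eq_of_le hSN,
      ← MonoidHom.range_eq_map, Subgroup.range_subtype] at h2
    rw [← h2]
    refine sup_le ?_ le_sup_right
    rw [← hKA]
    refine sup_le le_sup_left (le_sup_of_le_right ?_)
    rw [← hA]; exact inf_le_left
  · rw [hDd, Subgroup.zpowers_le, hmemC]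

end Cfsg.Agent.Char.Quat
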