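import Cfsg.Agent.Lib.Char.Quat.Derived
import Cfsg.Agent.Lib.Char.TI
import Mathlib.GroupTheory.Complement
import Mathlib.GroupTheory.SpecificGroups.Dihedral
import Mathlib.LinearAlgebra.Matrix.ToLin
import Mathlib.LinearAlgebra.Trace

/-!
The exceptional pair of irreducible characters of a group with generalised quaternion Sylow subgroups.
-/

set_option autoImplicit false

namespace Cfsg.Agent.Char.Quat

open Cfsg
open scoped ComplexConjugate

universe u

theorem classInner_comp_surjective {G H : Type*} [Group G] [Fintype G] [Group H] [Fintype H] (π : G →* H)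
    (hπ : Function.Surjective π) (f g : H → ℂ) :
    classInner (f ∘ π) (g ∘ π) = classInner f g := by
  classical
  have hfib : ∀ h : H, (Finset.univ.filter fun x : G => π x = h).card = Nat.card π.ker := by
    intro h
    obtain ⟨x, rfl⟩ := hπ h
    rw [← Fintype.card_subtype, ← Nat.card_eq_fintype_card]
    exact Nat.card_congr
      { toFun := fun y => ⟨x⁻¹ * y.1, MonoidHom.mem_ker.2 (by rw [map_mul, y.2, ← map_mul, inv_mul_cancel, map_one])⟩
        invFun := fun k => ⟨x * k.1, by rw [map_mul, MonoidHom.mem_ker.1 k.2, mul_one]⟩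
        left_inv := fun y => Subtype.ext (mul_inv_cancel_left x y.1)
        right_inv := fun k => Subtype.ext (inv_mul_cancel_left x k.1) }
  have hcard : Nat.card G = Nat.card H * Nat.card π.ker := by
    rw [π.ker.card_eq_card_quotient_mul_card_subgroup]
    congr 1
    exact Nat.card_congr (QuotientGroup.quotientKerEquivOfSurjective π hπ).toEquiv
  simp only [classInner, Function.comp_apply]
  rw [← Finset.sum_fiberwise_of_maps_to (t := Finset.univ) (g := π) (fun x _ => Finset.mem_univ _)]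
  have h1 : ∀ h : H, ∑ x ∈ Finset.univ.filter (fun x : G => π x = h), f (π x) * conj (g (π x)) =
      (Nat.card π.ker : ℂ) * (f h * conj (g h)) := by
    intro h
    rw [Finset.sum_congr rfl (fun x hx => by rw [(Finset.mem_filter.1 hx).2]), Finset.sum_const, hfib, nsmul_eq_mul]
  rw [Finset.sum_congr rfl (fun h _ => h1 h), ← Finset.mul_sum, ← mul_assoc]
  congr 1
  rw [hcard, Nat.cast_mul, mul_inv, mul_assoc, inv_mul_cancel₀ (Nat.cast_ne_zero.2 Nat.card_pos.ne'), mul_one]

theorem isCharacter_matrix {G : Type u} [Group G] {n : ℕ} (r : G →* Matrix (Fin n) (Fin n) ℂ) :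
    IsCharacter G (fun g => (r g).trace) := by
  let ρ : Representation ℂ G (Fin n → ℂ) :=
    ((Matrix.toLinAlgEquiv' (R := ℂ) (n := Fin n)).toRingEquiv.toMonoidHom).comp r
  refine ⟨n, ρ, funext fun g => ?_⟩
  show LinearMap.trace ℂ (Fin n → ℂ) (ρ g) = _
  rw [LinearMap.trace_eq_matrix_trace ℂ (Pi.basisFun ℂ (Fin n))]
  congr 1
  show LinearMap.toMatrix (Pi.basisFun ℂ (Fin n)) (Pi.basisFun ℂ (Fin n)) (Matrix.toLin' (r g)) = r g
  rw [LinearMap.toMatrix_eq_toMatrix', LinearMap.toMatrix'_toLin']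

/-- The natural two-dimensional representation of the dihedral group of order eight, over the integers. -/
def d8Mat : DihedralGroup 4 → Matrix (Fin 2) (Fin 2) ℤ
  | .r i => (!![0, -1; 1, 0] : Matrix (Fin 2) (Fin 2) ℤ) ^ i.val
  | .sr i => !![1, 0; 0, -1] * (!![0, -1; 1, 0] : Matrix (Fin 2) (Fin 2) ℤ) ^ i.val

theorem d8Mat_mul : ∀ g h : DihedralGroup 4, d8Mat (g * h) = d8Mat g * d8Mat h := by decide

theorem d8Mat_one : d8Mat 1 = 1 := by decide

noncomputable def d8Hom : DihedralGroup 4 →* Matrix (Fin 2) (Fin 2) ℂ :=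
  ((Int.castRingHom ℂ).mapMatrix.toMonoidHom).comp
    { toFun := d8Mat, map_one' := d8Mat_one, map_mul' := d8Mat_mul }

/-- The linear character of the dihedral group of order eight trivial on the rotations. -/
def d8Sign : DihedralGroup 4 → ℤ
  | .r _ => 1
  | .sr _ => -1

/-- The class function `1 + λ - θ`. -/
def d8Fun : DihedralGroup 4 → ℤ := fun g => 1 + d8Sign g - (d8Mat g).trace

theorem d8Fun_generalized : IsGeneralizedCharacter (DihedralGroup 4) (fun g => (d8Fun g : ℂ)) := by
  have hs : IsCharacter (DihedralGroup 4) (fun g => ((d8Sign g : ℤ) : ℂ)) := by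
    have h := isCharacter_matrix (G := DihedralGroup 4) (n := 1)
      (((Int.castRingHom ℂ).mapMatrix.toMonoidHom).comp
        { toFun := fun g => Matrix.of fun _ _ => d8Sign g
          map_one' := by decide
          map_mul' := by decide })
    convert h using 1
    funext g
    simp [Matrix.trace]
  have hθ := isCharacter_matrix d8Hom
  have heq : (fun g => (d8Fun g : ℂ)) = 1 + (fun g => ((d8Sign g : ℤ) : ℂ)) - fun g => (d8Hom g).trace := by
    funext g
    simp [d8Fun, d8Hom, Matrix.trace]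
  rw [heq]
  exact isGeneralizedCharacter_sub (isGeneralizedCharacter_add isGeneralizedCharacter_one
    (IsCharacter.isGeneralized hs)) (IsCharacter.isGeneralized hθ)

theorem d8_norm : classInner (fun g => (d8Fun g : ℂ)) (fun g => (d8Fun g : ℂ)) = 3 := by
  have h : ∑ g : DihedralGroup 4, d8Fun g * d8Fun g = 24 := by decide
  unfold classInner
  simp only [map_intCast, ← Int.cast_mul, ← Int.cast_sum, h, DihedralGroup.nat_card]
  norm_num

theorem d8_inner_one : classInner (fun g => (d8Fun g : ℂ)) 1 = 1 := by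
  have h : ∑ g : DihedralGroup 4, d8Fun g = 8 := by decide
  unfold classInner
  simp only [Pi.one_apply, map_one, mul_one, ← Int.cast_sum, h, DihedralGroup.nat_card]
  norm_num

/-- A generalised character of norm two and degree `-1` is a difference of two irreducibles. -/
theorem exists_sub_of_norm_two' {G : Type u} [Group G] [Fintype G] {θ : G → ℂ}
    (h : IsGeneralizedCharacter G θ) (h2 : classInner θ θ = 2) (h0 : θ 1 = -1) :
    ∃ μ ν : IrrCharacter G, μ ≠ ν ∧ θ = (μ : G → ℂ) - (ν : G → ℂ) := by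
  classical
  haveI := Fintype.ofFinite (IrrCharacter G)
  obtain ⟨c, hθ, hc⟩ := IsGeneralizedCharacter.exists_intCoeff h
  rw [IsGeneralizedCharacter.classInner_self_eq_sum_sq h c hc] at h2
  have h2' : ∑ χ, c χ ^ 2 = 2 := by exact_mod_cast h2
  obtain ⟨i, hi⟩ : ∃ i, c i ≠ 0 := by
    by_contra hh; push Not at hh; simp [hh] at h2'
  have hib : c i ^ 2 = 1 := by
    have hle : c i ^ 2 ≤ 2 :=
      h2' ▸ Finset.single_le_sum (fun k _ => sq_nonneg (c k)) (Finset.mem_univ i)
    have h4 : -2 < c i ∧ c i < 2 := ⟨by nlinarith, by nlinarith⟩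
    obtain ⟨h4, h5⟩ := h4
    interval_cases hci : c i <;> simp_all
  have hsum : ∑ χ, (if χ = i then 0 else c χ) ^ 2 = 1 := by
    rw [← Finset.add_sum_erase _ _ (Finset.mem_univ i)] at h2' ⊢
    rw [Finset.sum_congr rfl fun χ hχ => by rw [if_neg (Finset.ne_of_mem_erase hχ)]]
    rw [if_pos rfl, zero_pow two_ne_zero, zero_add]; rw [hib] at h2'; omega
  obtain ⟨j, hj, hrest⟩ := int_sum_sq_one hsum
  have hji : j ≠ i := by rintro rfl; simp at hj
  rw [if_neg hji] at hj
  have hθ2 : θ = (c i : ℂ) • (i : G → ℂ) + (c j : ℂ) • (j : G → ℂ) := by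
    rw [hθ, ← Finset.sum_pair (f := fun χ => (c χ : ℂ) • (χ : G → ℂ)) hji.symm]
    refine (Finset.sum_subset (Finset.subset_univ _) fun k _ hk => ?_).symm
    simp only [Finset.mem_insert, Finset.mem_singleton, not_or] at hk
    have := hrest k hk.2
    rw [if_neg hk.1] at this
    simp [this]
  obtain ⟨m, hm, hmi⟩ := IsIrrCharacter.degree_pos i.2
  obtain ⟨n, hn, hnj⟩ := IsIrrCharacter.degree_pos j.2
  have hd : (c i : ℤ) * m + c j * n = -1 := by
    have := congrFun hθ2 1
    simp [h0, hmi, hnj] at this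
    exact_mod_cast this.symm
  rcases sq_eq_one_iff.mp hib with h1 | h1 <;> rcases hj with h3 | h3 <;>
    simp only [h1, h3] at hd hθ2
  · omega
  · exact ⟨i, j, hji.symm, by rw [hθ2]; simp; abel⟩
  · exact ⟨j, i, hji, by rw [hθ2]; simp; abel⟩
  · omega

open QuaternionGroup in
/-- Reduction to the dihedral group of order eight. -/
def quatToD8 {M : ℕ} (hM : 4 ∣ M) : QuaternionGroup M →* DihedralGroup 4 where
  toFun
    | a i => .r (ZMod.castHom (hM.mul_left 2) (ZMod 4) i)
    | xa i => .sr (ZMod.castHom (hM.mul_left 2) (ZMod 4) i)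
  map_one' := by
    rw [← a_zero]
    show DihedralGroup.r (ZMod.castHom (hM.mul_left 2) (ZMod 4) 0) = _
    rw [map_zero]; rfl
  map_mul' g h := by
    have h0 : ZMod.castHom (hM.mul_left 2) (ZMod 4) (M : ZMod (2 * M)) = 0 := by
      rw [map_natCast]; exact (ZMod.natCast_eq_zero_iff M 4).2 hM
    rcases g with i | i <;> rcases h with j | j
    · simp only [a_mul_a, DihedralGroup.r_mul_r, map_add]
    · simp only [a_mul_xa, DihedralGroup.r_mul_sr, map_sub]
    · simp only [xa_mul_a, DihedralGroup.sr_mul_r, map_add]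
    · simp only [xa_mul_xa, DihedralGroup.sr_mul_sr, map_sub, map_add, h0, zero_add]

theorem quatToD8_surjective {M : ℕ} (hM : 4 ∣ M) : Function.Surjective (quatToD8 hM) := by
  rintro (i | i)
  · obtain ⟨k, rfl⟩ := ZMod.intCast_surjective i
    exact ⟨QuaternionGroup.a (k : ZMod (2 * M)), congrArg DihedralGroup.r (map_intCast _ k)⟩
  · obtain ⟨k, rfl⟩ := ZMod.intCast_surjective i
    exact ⟨QuaternionGroup.xa (k : ZMod (2 * M)), congrArg DihedralGroup.sr (map_intCast _ k)⟩

theorem d8Fun_ne_zero {g : DihedralGroup 4} (h : d8Fun g ≠ 0) : ∃ i, g = .r i ∧ i ≠ 0 := by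
  revert g; decide

theorem dvd_orderOf_a {M k : ℕ} [NeZero M] (hMk : M = 2 ^ k) (hM : 4 ∣ M) {i : ZMod (2 * M)}
    (hi : ZMod.castHom (hM.mul_left 2) (ZMod 4) i ≠ 0) : M ∣ orderOf (QuaternionGroup.a i) := by
  rw [QuaternionGroup.orderOf_a]
  have h1 : ¬ 4 ∣ i.val := by
    intro h
    apply hi
    rw [ZMod.castHom_apply, ZMod.cast_eq_val]
    exact (ZMod.natCast_eq_zero_iff i.val 4).2 h
  obtain ⟨r, hr⟩ : ∃ r, Nat.gcd (2 * M) i.val * r = 2 := by
    have h2 : Nat.gcd (2 * M) i.val ∣ 2 * M := Nat.gcd_dvd_left _ _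
    have h3 : Nat.gcd (2 * M) i.val ∣ i.val := Nat.gcd_dvd_right _ _
    have h2 : Nat.gcd (2 * M) i.val ∣ 2 ^ (k + 1) := h2.trans (by rw [hMk, pow_succ'])
    obtain ⟨j, -, hj⟩ := (Nat.dvd_prime_pow Nat.prime_two).1 h2
    rw [hj] at h3 ⊢
    rcases j with _ | _ | j
    · exact ⟨2, by norm_num⟩
    · exact ⟨1, by norm_num⟩
    · exact absurd ((dvd_mul_left 4 (2 ^ j)).trans (by rwa [pow_succ, pow_succ, mul_assoc] at h3)) h1
  have hg : 0 < Nat.gcd (2 * M) i.val := Nat.gcd_pos_of_pos_left _ (by have := NeZero.pos M; omega)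
  refine ⟨r, Nat.div_eq_of_eq_mul_left hg ?_⟩
  rw [show (M * r) * Nat.gcd (2 * M) i.val = M * (Nat.gcd (2 * M) i.val * r) by ring, hr]; ring

end Cfsg.Agent.Char.Quat
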